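import Groth.Prelude.Def_DCoh4
import Mathlib.Algebra.Homology.HomologySequence
import Mathlib.Algebra.Homology.HomologicalComplexAbelian
import Mathlib.Algebra.Homology.HomotopyCategory.Pretriangulated

/-!
# Tensoring the short exact sequence of a mapping cone
-/

set_option autoImplicit false
set_option linter.style.haveILetI false

universe v u

open CategoryTheory Limits AlgebraicGeometry HomologicalComplex

namespace Groth.Agent.Lib.LocalTor.Split

section

variable {C : Type u} [Category.{v} C] [Abelian C]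

open CochainComplex CochainComplex.mappingCone

variable {K L : CochainComplex C ℤ} (φ : K ⟶ L)

lemma mor₃_f (n : ℤ) : (triangle φ).mor₃.f n =
    (-(fst φ).1.v n (n + 1) rfl : (mappingCone φ).X n ⟶ K.X (n + 1)) := by
  simp [triangle, CochainComplex.HomComplex.Cochain.rightShift_v _ 1 0 (zero_add 1) n n (add_zero n) (n + 1) rfl]
  exact congrArg Neg.neg (Category.comp_id ((fst φ).1.v n (n + 1) rfl))

lemma inr_mor₃ : inr φ ≫ (triangle φ).mor₃ = 0 := by
  refine HomologicalComplex.hom_ext _ _ fun n => ?_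
  rw [HomologicalComplex.comp_f, mor₃_f]
  exact (Preadditive.comp_neg _ _).trans ((congrArg Neg.neg (inr_f_fst_v φ n (n + 1) rfl)).trans neg_zero)

/-- `L ⟶ cone φ ⟶ K⟦1⟧`. -/
noncomputable abbrev coneSeq : ShortComplex (CochainComplex C ℤ) :=
  ShortComplex.mk (inr φ) (triangle φ).mor₃ (inr_mor₃ φ)

/-- The sequence of a cone splits in each degree. -/
noncomputable def coneSplitting (n : ℤ) :
    ((coneSeq φ).map (HomologicalComplex.eval C (ComplexShape.up ℤ) n)).Splitting where
  r := (snd φ).v n n (add_zero n)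
  s := (-(inl φ).v (n + 1) n (by omega) : K.X (n + 1) ⟶ (mappingCone φ).X n)
  f_r := inr_f_snd_v φ n
  s_g := by
    change (-(inl φ).v (n + 1) n _ : K.X (n + 1) ⟶ (mappingCone φ).X n) ≫ (triangle φ).mor₃.f n = _
    rw [mor₃_f]
    exact (Preadditive.neg_comp_neg _ _).trans (inl_v_fst_v φ (n + 1) n rfl)
  id := by
    have h := id_X φ n (n + 1) rfl
    rw [add_comm] at h
    refine Eq.trans ?_ h
    refine congrArg₂ (· + ·) rfl ?_
    change (triangle φ).mor₃.f n ≫ (-(inl φ).v (n + 1) n _ : K.X (n + 1) ⟶ (mappingCone φ).X n) = _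
    rw [mor₃_f]
    exact Preadditive.neg_comp_neg _ _

end

variable {X : Scheme.{u}}

instance preservesZero_tensor (F : CochainComplex X.Modules ℤ) :
    ((DCoh.tensorCx (X := X)).flip.obj F).PreservesZeroMorphisms where
  map_zero A B := by
    refine HomologicalComplex.hom_ext _ _ fun n => mapBifunctor.hom_ext fun p q h => ?_
    show _ ≫ (mapBifunctorMap (0 : A ⟶ B) (𝟙 F) (DCoh.tensorBi (X := X)) (ComplexShape.up ℤ)).f n = _
    rw [ι_mapBifunctorMap, HomologicalComplex.zero_f, Functor.map_zero, zero_app, zero_comp]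
    exact Limits.comp_zero.symm

theorem shortExact_tensor_aux {A B D : CochainComplex X.Modules ℤ} (a : A ⟶ B) (b : B ⟶ D)
    (rr : ∀ p, B.X p ⟶ A.X p) (ss : ∀ p, D.X p ⟶ B.X p)
    (hr : ∀ p, a.f p ≫ rr p = 𝟙 _) (hs : ∀ p, ss p ≫ b.f p = 𝟙 _)
    (hid : ∀ p, rr p ≫ a.f p + b.f p ≫ ss p = 𝟙 _) (F : CochainComplex X.Modules ℤ) (n : ℤ) :
    ∃ (r : (mapBifunctor B F (DCoh.tensorBi (X := X)) (.up ℤ)).X n ⟶
        (mapBifunctor A F (DCoh.tensorBi (X := X)) (.up ℤ)).X n)
      (s : (mapBifunctor D F (DCoh.tensorBi (X := X)) (.up ℤ)).X n ⟶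
        (mapBifunctor B F (DCoh.tensorBi (X := X)) (.up ℤ)).X n),
      (mapBifunctorMap a (𝟙 F) (DCoh.tensorBi (X := X)) (.up ℤ)).f n ≫ r = 𝟙 _ ∧
      s ≫ (mapBifunctorMap b (𝟙 F) (DCoh.tensorBi (X := X)) (.up ℤ)).f n = 𝟙 _ ∧
      r ≫ (mapBifunctorMap a (𝟙 F) (DCoh.tensorBi (X := X)) (.up ℤ)).f n +
        (mapBifunctorMap b (𝟙 F) (DCoh.tensorBi (X := X)) (.up ℤ)).f n ≫ s = 𝟙 _ := by
  let T := DCoh.tensorBi (X := X)
  let c := ComplexShape.up ℤ
  have key : ∀ {A B : CochainComplex X.Modules ℤ} (a : A ⟶ B) (p q : ℤ) (h : p + q = n),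
      ιMapBifunctor A F T c p q n h ≫ (mapBifunctorMap a (𝟙 F) T c).f n =
        (T.map (a.f p)).app (F.X q) ≫ ιMapBifunctor B F T c p q n h := fun a p q h => by
    rw [ι_mapBifunctorMap, HomologicalComplex.id_f, CategoryTheory.Functor.map_id, Category.id_comp]
  have cmp : ∀ {A B D : X.Modules} (a : A ⟶ B) (b : B ⟶ D) (M : X.Modules),
      (T.map a).app M ≫ (T.map b).app M = (T.map (a ≫ b)).app M := fun a b M => by
    rw [Functor.map_comp, NatTrans.comp_app]
  refine ⟨mapBifunctorDesc fun p q h => (T.map (rr p)).app (F.X q) ≫ ιMapBifunctor A F T c p q n h,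
    mapBifunctorDesc fun p q h => (T.map (ss p)).app (F.X q) ≫ ιMapBifunctor B F T c p q n h,
    mapBifunctor.hom_ext fun p q h => ?_, mapBifunctor.hom_ext fun p q h => ?_,
    mapBifunctor.hom_ext fun p q h => ?_⟩
  · rw [← Category.assoc, key a p q h, Category.assoc, ι_mapBifunctorDesc, ← Category.assoc, cmp,
      hr, CategoryTheory.Functor.map_id, NatTrans.id_app, Category.id_comp, Category.comp_id]
  · rw [← Category.assoc, ι_mapBifunctorDesc, Category.assoc, key b p q h, ← Category.assoc, cmp,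
      hs, CategoryTheory.Functor.map_id, NatTrans.id_app, Category.id_comp, Category.comp_id]
  · rw [Preadditive.comp_add, ← Category.assoc, ι_mapBifunctorDesc, Category.assoc, key a p q h,
      ← Category.assoc, cmp, ← Category.assoc _ _ (mapBifunctorDesc _), key b p q h, Category.assoc,
      ι_mapBifunctorDesc, ← Category.assoc, cmp, ← Preadditive.add_comp, ← NatTrans.app_add,
      ← Functor.map_add, hid, CategoryTheory.Functor.map_id, NatTrans.id_app, Category.id_comp,
      Category.comp_id]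

/-- `- ⊗ F` keeps degreewise split short exact sequences short exact. -/
theorem shortExact_tensor (S : ShortComplex (CochainComplex X.Modules ℤ))
    (σ : ∀ n, (S.map (HomologicalComplex.eval X.Modules (ComplexShape.up ℤ) n)).Splitting)
    (F : CochainComplex X.Modules ℤ) :
    (S.map ((DCoh.tensorCx (X := X)).flip.obj F)).ShortExact := by
  refine HomologicalComplex.shortExact_of_degreewise_shortExact _ fun n => ?_
  obtain ⟨r, s, h1, h2, h3⟩ := shortExact_tensor_aux S.f S.g (fun p => (σ p).r) (fun p => (σ p).s)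
    (fun p => (σ p).f_r) (fun p => (σ p).s_g) (fun p => (σ p).id) F n
  exact ShortComplex.Splitting.shortExact
    { r := r, s := s, f_r := h1, s_g := h2, id := h3 }

instance preservesZero_tensor' (E : CochainComplex X.Modules ℤ) :
    ((DCoh.tensorCx (X := X)).obj E).PreservesZeroMorphisms where
  map_zero A B := by
    refine HomologicalComplex.hom_ext _ _ fun n => mapBifunctor.hom_ext fun p q h => ?_
    show _ ≫ (mapBifunctorMap (𝟙 E) (0 : A ⟶ B) (DCoh.tensorBi (X := X)) (ComplexShape.up ℤ)).f n = _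
    rw [ι_mapBifunctorMap, HomologicalComplex.zero_f, HomologicalComplex.id_f,
      CategoryTheory.Functor.map_id, NatTrans.id_app, Category.id_comp, Functor.map_zero, zero_comp]
    exact Limits.comp_zero.symm

theorem shortExact_tensor_aux' {A B D : CochainComplex X.Modules ℤ} (a : A ⟶ B) (b : B ⟶ D)
    (rr : ∀ q, B.X q ⟶ A.X q) (ss : ∀ q, D.X q ⟶ B.X q)
    (hr : ∀ q, a.f q ≫ rr q = 𝟙 _) (hs : ∀ q, ss q ≫ b.f q = 𝟙 _)
    (hid : ∀ q, rr q ≫ a.f q + b.f q ≫ ss q = 𝟙 _) (E : CochainComplex X.Modules ℤ) (n : ℤ) :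
    ∃ (r : (mapBifunctor E B (DCoh.tensorBi (X := X)) (.up ℤ)).X n ⟶
        (mapBifunctor E A (DCoh.tensorBi (X := X)) (.up ℤ)).X n)
      (s : (mapBifunctor E D (DCoh.tensorBi (X := X)) (.up ℤ)).X n ⟶
        (mapBifunctor E B (DCoh.tensorBi (X := X)) (.up ℤ)).X n),
      (mapBifunctorMap (𝟙 E) a (DCoh.tensorBi (X := X)) (.up ℤ)).f n ≫ r = 𝟙 _ ∧
      s ≫ (mapBifunctorMap (𝟙 E) b (DCoh.tensorBi (X := X)) (.up ℤ)).f n = 𝟙 _ ∧
      r ≫ (mapBifunctorMap (𝟙 E) a (DCoh.tensorBi (X := X)) (.up ℤ)).f n +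
        (mapBifunctorMap (𝟙 E) b (DCoh.tensorBi (X := X)) (.up ℤ)).f n ≫ s = 𝟙 _ := by
  let T := DCoh.tensorBi (X := X)
  let c := ComplexShape.up ℤ
  have key : ∀ {A B : CochainComplex X.Modules ℤ} (a : A ⟶ B) (p q : ℤ) (h : p + q = n),
      ιMapBifunctor E A T c p q n h ≫ (mapBifunctorMap (𝟙 E) a T c).f n =
        (T.obj (E.X p)).map (a.f q) ≫ ιMapBifunctor E B T c p q n h := fun a p q h => by
    rw [ι_mapBifunctorMap, HomologicalComplex.id_f, CategoryTheory.Functor.map_id, NatTrans.id_app,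
      Category.id_comp]
  refine ⟨mapBifunctorDesc fun p q h => (T.obj (E.X p)).map (rr q) ≫ ιMapBifunctor E A T c p q n h,
    mapBifunctorDesc fun p q h => (T.obj (E.X p)).map (ss q) ≫ ιMapBifunctor E B T c p q n h,
    mapBifunctor.hom_ext fun p q h => ?_, mapBifunctor.hom_ext fun p q h => ?_,
    mapBifunctor.hom_ext fun p q h => ?_⟩
  · rw [← Category.assoc, key a p q h, Category.assoc, ι_mapBifunctorDesc, ← Category.assoc,
      ← Functor.map_comp, hr, CategoryTheory.Functor.map_id, Category.id_comp, Category.comp_id]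
  · rw [← Category.assoc, ι_mapBifunctorDesc, Category.assoc, key b p q h, ← Category.assoc,
      ← Functor.map_comp, hs, CategoryTheory.Functor.map_id, Category.id_comp, Category.comp_id]
  · rw [Preadditive.comp_add, ← Category.assoc, ι_mapBifunctorDesc, Category.assoc, key a p q h,
      ← Category.assoc, ← Functor.map_comp, ← Category.assoc _ _ (mapBifunctorDesc _), key b p q h,
      Category.assoc, ι_mapBifunctorDesc, ← Category.assoc, ← Functor.map_comp, ← Preadditive.add_comp,
      ← Functor.map_add, hid, CategoryTheory.Functor.map_id, Category.id_comp, Category.comp_id]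

/-- `E ⊗ -` keeps degreewise split short exact sequences short exact. -/
theorem shortExact_tensor' (S : ShortComplex (CochainComplex X.Modules ℤ))
    (σ : ∀ n, (S.map (HomologicalComplex.eval X.Modules (ComplexShape.up ℤ) n)).Splitting)
    (E : CochainComplex X.Modules ℤ) :
    (S.map ((DCoh.tensorCx (X := X)).obj E)).ShortExact := by
  refine HomologicalComplex.shortExact_of_degreewise_shortExact _ fun n => ?_
  obtain ⟨r, s, h1, h2, h3⟩ := shortExact_tensor_aux' S.f S.g (fun p => (σ p).r) (fun p => (σ p).s)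
    (fun p => (σ p).f_r) (fun p => (σ p).s_g) (fun p => (σ p).id) E n
  exact ShortComplex.Splitting.shortExact
    { r := r, s := s, f_r := h1, s_g := h2, id := h3 }

end Groth.Agent.Lib.LocalTor.Split
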