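import Groth.Agent.Lib.LocalTor.Split
import Groth.Agent.Lib.Perfect.PCCoh
import Groth.Agent.Lib.Perfect.Tensor
import Groth.Agent.Lib.DerivedOX.Amplitude

/-!
# Coherence of the cohomology of tensor products of pseudo-coherent complexes
-/

set_option autoImplicit false
set_option linter.style.haveILetI false

universe u

open CategoryTheory Limits AlgebraicGeometry HomologicalComplex Pretriangulated

attribute [local instance] HasDerivedCategory.standard

namespace Groth.Agent.Lib.LocalTor.Coherent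

open Groth.Agent.Lib.Perfect Groth.Agent.Lib.Perfect.Basic Groth.Agent.Lib.Perfect.Pullback
open Groth.Agent.Lib.Perfect.PseudoCoh Groth.Agent.Lib.Perfect.Ascent
open Groth.Agent.Lib.DerivedOX

variable {X : Scheme.{u}}

lemma isZero_tensorCx_X {A B : CochainComplex X.Modules ℤ} {a b : ℤ}
    (hA : ∀ i, a < i → IsZero (A.X i)) (hB : ∀ i, b < i → IsZero (B.X i)) (n : ℤ) (hn : a + b < n) :
    IsZero (((DCoh.tensorCx.obj A).obj B).X n) := by
  rw [IsZero.iff_id_eq_zero]
  refine mapBifunctor.hom_ext fun p q h => IsZero.eq_of_src ?_ _ _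
  change p + q = n at h
  by_cases hp : a < p
  · exact ((DCoh.tensorBi (X := X)).flip.obj (B.X q)).map_isZero (hA p hp)
  · exact ((DCoh.tensorBi (X := X)).obj (A.X p)).map_isZero (hB q (by omega))

/-- Tensoring a complex exact in high degrees with a bounded above K-flat complex. -/
theorem exactAt_tensor (C F : CochainComplex X.Modules ℤ) (m b : ℤ)
    (hC : ∀ i, m ≤ i → C.ExactAt i) (hF0 : ∀ i, b < i → IsZero (F.X i)) (hF : DCoh.IsKFlat F)
    (n : ℤ) (hn : m + b ≤ n) : ((DCoh.tensorCx.obj C).obj F).ExactAt n := by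
  haveI : C.IsLE (m - 1) := (C.isLE_iff (m - 1)).2 fun i hi => hC i (by omega)
  haveI : QuasiIso (C.ιTruncLE (m - 1)) := (C.quasiIso_ιTruncLE_iff (m - 1)).2 inferInstance
  haveI := LeftExists.quasiIso_tensor_right hF (C.ιTruncLE (m - 1))
  refine (exactAt_iff_of_quasiIsoAt ((DCoh.tensorCx.map (C.ιTruncLE (m - 1))).app F) n).1 ?_
  exact HomologicalComplex.ExactAt.of_isZero (isZero_tensorCx_X (a := m - 1)
    (fun i hi => (C.truncLE (m - 1)).isZero_of_isStrictlyLE (m - 1) i hi) hF0 n (by omega))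

/-- The same with the factors exchanged. -/
theorem exactAt_tensor' (E C : CochainComplex X.Modules ℤ) (m a : ℤ)
    (hC : ∀ i, m ≤ i → C.ExactAt i) (hE0 : ∀ i, a < i → IsZero (E.X i)) (hE : DCoh.IsKFlat E)
    (n : ℤ) (hn : a + m ≤ n) : ((DCoh.tensorCx.obj E).obj C).ExactAt n := by
  haveI : C.IsLE (m - 1) := (C.isLE_iff (m - 1)).2 fun i hi => hC i (by omega)
  haveI : QuasiIso (C.ιTruncLE (m - 1)) := (C.quasiIso_ιTruncLE_iff (m - 1)).2 inferInstance
  haveI := TensorQis.quasiIso_left hE (C.ιTruncLE (m - 1))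
  refine (exactAt_iff_of_quasiIsoAt ((DCoh.tensorCx.obj E).map (C.ιTruncLE (m - 1))) n).1 ?_
  exact HomologicalComplex.ExactAt.of_isZero (isZero_tensorCx_X (b := m - 1) hE0
    (fun i hi => (C.truncLE (m - 1)).isZero_of_isStrictlyLE (m - 1) i hi) n (by omega))

/-- A pseudo-coherent complex is locally the target of a map from a strictly perfect one, exact cone
in high degrees. -/
theorem exists_model (P : CochainComplex X.Modules ℤ) (m : ℤ) (x : X)
    (h : PCAt m (DerivedCategory.Q.obj P) x) :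
    ∃ (V : Scheme.{u}) (j : V ⟶ X) (_ : IsOpenImmersion j) (v : V)
      (E : CochainComplex V.Modules ℤ) (φ : E ⟶ (pC j).obj P),
      j v = x ∧ DCoh.IsStrictlyPerfect E ∧ ∀ i, m ≤ i → (CochainComplex.mappingCone φ).ExactAt i := by
  obtain ⟨U, j, _, y, E, α, hy, hE, hα⟩ := h
  let α' : DerivedCategory.Q.obj E ⟶ DerivedCategory.Q.obj ((pC j).obj P) :=
    α ≫ (RDQ j P).hom ≫ DerivedCategory.Q.map ((rCIso j).hom.app P)
  have hα' : Good m α' := hα.comp (Good.of_isIso m _)
  obtain ⟨V, k, _, v, φ, hv, hφ⟩ := Lift.exists_map hE α' y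
  have hgood : Good m (DerivedCategory.Q.map φ) := by
    have e : DerivedCategory.Q.map φ =
        (RDQ k E).inv ≫ (RD k).map α' ≫ (RDQ k ((pC j).obj P)).hom := by
      rw [hφ]; simp
    rw [e]
    exact (Good.of_isIso m _).comp ((good_restrict k hα').comp (Good.of_isIso m _))
  let φ₁ : (rC k).obj E ⟶ (pC (k ≫ j)).obj P :=
    φ ≫ (rCIso k).hom.app ((pC j).obj P) ≫ (pCComp k j).hom.app P
  have hgood₁ : Good m (DerivedCategory.Q.map φ₁) := by
    simp only [φ₁, Functor.map_comp]
    exact hgood.comp (Good.of_isIso m _)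
  refine ⟨V, k ≫ j, inferInstance, v, (rC k).obj E, φ₁, by simp [hv, hy], isStrictlyPerfect_map k hE,
    fun i hi => ?_⟩
  rw [HomologicalComplex.exactAt_iff_isZero_homology]
  exact ((good_iff m _ (DerivedCategory.mappingCone_triangle_distinguished φ₁)).1 hgood₁ i hi).of_iso
    ((DerivedCategory.homologyFunctorFactors V.Modules i).app _).symm

/-- The cohomology of a tensor product of pseudo-coherent complexes is coherent. -/
theorem isCoh_homology_tensor [IsLocallyNoetherian X] (P F : CochainComplex X.Modules ℤ) (bF : ℤ)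
    (hF0 : ∀ i, bF < i → IsZero (F.X i))
    (hF : DCoh.IsKFlat F) (hP : ∀ m x, PCAt m (DerivedCategory.Q.obj P) x)
    (hFc : ∀ m x, PCAt m (DerivedCategory.Q.obj F) x) (i : ℤ) :
    Coh.IsCoh (((DCoh.tensorCx.obj P).obj F).homology i) := by
  refine Perfect.Coherent.isCoh_of_cover fun x => ?_
  obtain ⟨U, j, _, y, E, φ, hy, hE, hφ⟩ := exists_model P (i - bF - 2) x (hP _ x)
  obtain ⟨⟨a, b, hv⟩, hlf⟩ := hE
  have hpc : PCAt (i - b - 4) (DerivedCategory.Q.obj ((pC j).obj F)) y :=
    PCAt.of_iso (RDQ j F ≪≫ DerivedCategory.Q.mapIso ((rCIso j).app F))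
      (PCAt.restrict j y (hFc _ (j y)))
  obtain ⟨W, k, _, w, G, ψ, hw, hG, hψ⟩ := exists_model ((pC j).obj F) (i - b - 4) y hpc
  haveI : IsLocallyNoetherian W := isLocallyNoetherian_of_isOpenImmersion (k ≫ j)
  let P₁ := (pC (k ≫ j)).obj P
  let F₁ := (pC (k ≫ j)).obj F
  let E₁ := (pC k).obj E
  let φ₁ : E₁ ⟶ P₁ := (pC k).map φ ≫ (pCComp k j).hom.app P
  let ψ₁ : G ⟶ F₁ := ψ ≫ (pCComp k j).hom.app F
  have hE₁ : DCoh.IsStrictlyPerfect E₁ := by
    obtain ⟨⟨a', b', hv'⟩, hlf'⟩ := isStrictlyPerfect_map k (E := E) ⟨⟨a, b, hv⟩, hlf⟩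
    exact ⟨⟨a', b', fun n hn => (hv' n hn).of_iso
        ((Scheme.Modules.restrictFunctorIsoPullback k).app (E.X n)).symm⟩,
      fun n => (TensorMod.LocFree.of_iso ((Scheme.Modules.restrictFunctorIsoPullback k).app (E.X n))
        (hlf' n))⟩
  have hE₁0 : ∀ n, b < n → IsZero (E₁.X n) := fun n hn =>
    (Scheme.Modules.pullback k).map_isZero (hv n (Or.inr hn))
  have hF₁0 : ∀ n, bF < n → IsZero (F₁.X n) := fun n hn =>
    (Scheme.Modules.pullback (k ≫ j)).map_isZero (hF0 n hn)
  have hF₁ : DCoh.IsKFlat F₁ := KFlatPullback.isKFlat_pullback (k ≫ j) hF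
  have hcone : ∀ n, i - bF - 2 ≤ n → (CochainComplex.mappingCone φ₁).ExactAt n := fun n hn => by
    have h1 : ((rC k).obj (CochainComplex.mappingCone φ)).ExactAt n :=
      Lift2.exactAt_map k (hφ n hn)
    let e : (pC k).obj (CochainComplex.mappingCone φ) ≅ CochainComplex.mappingCone φ₁ :=
      CochainComplex.mappingCone.mapHomologicalComplexIso φ (Scheme.Modules.pullback k) ≪≫
        { hom := CochainComplex.mappingCone.map ((pC k).map φ) φ₁ (𝟙 _) ((pCComp k j).hom.app P) (by simp [φ₁])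
          inv := CochainComplex.mappingCone.map φ₁ ((pC k).map φ) (𝟙 _) ((pCComp k j).inv.app P) (by simp [φ₁])
          hom_inv_id := by
            rw [← CochainComplex.mappingCone.map_comp]
            simp only [Category.comp_id, Category.id_comp, Iso.hom_inv_id_app, Iso.inv_hom_id_app]
            exact CochainComplex.mappingCone.map_id _
          inv_hom_id := by
            rw [← CochainComplex.mappingCone.map_comp]
            simp only [Category.comp_id, Category.id_comp, Iso.hom_inv_id_app, Iso.inv_hom_id_app]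
            exact CochainComplex.mappingCone.map_id _ }
    exact h1.of_iso ((rCIso k).app _ ≪≫ e)
  have hcone' : ∀ n, i - b - 4 ≤ n → (CochainComplex.mappingCone ψ₁).ExactAt n := fun n hn => by
    let e : CochainComplex.mappingCone ψ ≅ CochainComplex.mappingCone ψ₁ :=
        { hom := CochainComplex.mappingCone.map ψ ψ₁ (𝟙 _) ((pCComp k j).hom.app F) (by simp [ψ₁])
          inv := CochainComplex.mappingCone.map ψ₁ ψ (𝟙 _) ((pCComp k j).inv.app F) (by simp [ψ₁])
          hom_inv_id := by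
            rw [← CochainComplex.mappingCone.map_comp]
            simp only [Category.comp_id, Category.id_comp, Iso.hom_inv_id_app, Iso.inv_hom_id_app]
            exact CochainComplex.mappingCone.map_id _
          inv_hom_id := by
            rw [← CochainComplex.mappingCone.map_comp]
            simp only [Category.comp_id, Category.id_comp, Iso.hom_inv_id_app, Iso.inv_hom_id_app]
            exact CochainComplex.mappingCone.map_id _ }
    exact (hψ n hn).of_iso e
  -- first step: replace `P₁` by `E₁⟦1⟧`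
  have s₁ := Split.shortExact_tensor (Split.coneSeq φ₁) (Split.coneSplitting φ₁) F₁
  have d₁ : (((DCoh.tensorCx.obj (E₁⟦(1 : ℤ)⟧)).obj F₁).homology (i - 1)) ≅
      ((DCoh.tensorCx.obj P₁).obj F₁).homology i :=
    s₁.δIso (i - 1) i (by simp)
      ((exactAt_iff_isZero_homology _ _).1 (exactAt_tensor _ F₁ _ bF hcone hF₁0 hF₁ (i - 1) (by omega)))
      ((exactAt_iff_isZero_homology _ _).1 (exactAt_tensor _ F₁ _ bF hcone hF₁0 hF₁ i (by omega)))
  -- second step: replace `F₁` by `G⟦1⟧`
  let E' := E₁⟦(1 : ℤ)⟧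
  have hE' : DCoh.IsStrictlyPerfect E' := Triangle.isStrictlyPerfect_shift hE₁ 1
  have hE'0 : ∀ n, b - 1 < n → IsZero (E'.X n) := fun n hn => hE₁0 (n + 1) (by omega)
  have hE'k : DCoh.IsKFlat E' := Perfect.Tensor.isKFlat_of_isStrictlyPerfect hE'
  have s₂ := Split.shortExact_tensor' (Split.coneSeq ψ₁) (Split.coneSplitting ψ₁) E'
  have d₂ : (((DCoh.tensorCx.obj E').obj (G⟦(1 : ℤ)⟧)).homology (i - 2)) ≅
      ((DCoh.tensorCx.obj E').obj F₁).homology (i - 1) :=
    s₂.δIso (i - 2) (i - 1) (by simp; omega)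
      ((exactAt_iff_isZero_homology _ _).1 (exactAt_tensor' E' _ _ (b - 1) hcone' hE'0 hE'k (i - 2) (by omega)))
      ((exactAt_iff_isZero_homology _ _).1 (exactAt_tensor' E' _ _ (b - 1) hcone' hE'0 hE'k (i - 1) (by omega)))
  have hT := Perfect.Tensor.isStrictlyPerfect_tensor hE' (Triangle.isStrictlyPerfect_shift hG 1)
  have hcoh : Coh.IsCoh (((DCoh.tensorCx.obj E').obj (G⟦(1 : ℤ)⟧)).homology (i - 2)) :=
    Perfect.Coherent.isCoh_homology _ (Perfect.Coherent.isCoh_of_isFinLocFree (hT.2 _)).1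
      (Perfect.Coherent.isCoh_of_isFinLocFree (hT.2 _)) (Perfect.Coherent.isCoh_of_isFinLocFree (hT.2 _)).1
  have h₂ := CohBasics.Closure.isCoh_of_iso (d₂ ≪≫ eqToIso rfl) hcoh
  have h₁ := CohBasics.Closure.isCoh_of_iso d₁ h₂
  refine ⟨W, k ≫ j, inferInstance, w, by simp [hw, hy], CohBasics.Closure.isCoh_of_iso ?_ h₁⟩
  exact (HomologicalComplex.homologyFunctor W.Modules (ComplexShape.up ℤ) i).mapIso
      (Perfect.Tensor.pullTensorIso (k ≫ j) P F ≪≫ ((rCIso (k ≫ j)).app _).symm) ≪≫
    (((DCoh.tensorCx.obj P).obj F).sc i).mapHomologyIso (Scheme.Modules.restrictFunctor (k ≫ j))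

end Groth.Agent.Lib.LocalTor.Coherent
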