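import Groth.Prelude.Def_HTor
import Groth.Agent.Lib.LocalTor.Coherent
import Groth.Agent.Lib.Perfect.PullPC
import Groth.Agent.Lib.DerivedOX.PullPushAdj
import Groth.Agent.Lib.DerivedOX.TensorCoprod
import Groth.Agent.Lib.DerivedOX.FlatResolve
import Groth.Agent.Lib.Cyc.FP.Stalk

/-!
# Local hypertor sheaves are coherent
-/

set_option autoImplicit false
set_option linter.style.haveILetI false

universe u

open CategoryTheory Limits AlgebraicGeometry HomologicalComplex

attribute [local instance] HasDerivedCategory.standard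

namespace Groth.Agent.Lib.LocalTor.Main

open Groth.Agent.Lib.Perfect Groth.Agent.Lib.Perfect.Pullback Groth.Agent.Lib.DerivedOX

variable {X Y Z : Scheme.{u}}

/-- Flat pullback preserves homology. -/
theorem preservesHomology_pullback (q : Z ⟶ Y) [Flat q] :
    (Scheme.Modules.pullback q).PreservesHomology := by
  haveI := (Scheme.Modules.pullbackPushforwardAdjunction q).leftAdjoint_preservesColimits
  haveI : (Scheme.Modules.pullback q).PreservesMonomorphisms :=
    ⟨fun u _ => Cyc.FP.Stalk.mono_pullback q u⟩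
  exact (Scheme.Modules.pullback q).preservesHomology_of_preservesMonos_and_cokernels

lemma isLE_toD {K : CochainComplex X.Modules ℤ} (b : ℤ) (h : ∀ i, b < i → K.ExactAt i) :
    (DCoh.toD X K).IsLE b :=
  (DerivedCategory.isLE_iff _ b).2 fun i hi => ((exactAt_iff_isZero_homology _ _).1 (h i hi)).of_iso
    ((DerivedCategory.homologyFunctorFactors X.Modules i).app K)

/-- `L p^* P ⊗^L q^* Q` has coherent cohomology. -/
theorem isCohD_main [IsLocallyNoetherian X] [IsLocallyNoetherian Z] (p : Z ⟶ X) (q : Z ⟶ Y) [Flat q]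
    (P : CochainComplex X.Modules ℤ) (Q : CochainComplex Y.Modules ℤ)
    (bP bQ : ℤ) (hP0 : ∀ i, bP < i → IsZero (P.X i)) (hQ0 : ∀ i, bQ < i → IsZero (Q.X i))
    (hP : DCoh.IsCohD (DCoh.toD X P)) (hQ : DCoh.IsCohD (DCoh.toD Y Q))
    [DCoh.HasLpull p] [DCoh.HasLTensorCx ((pC q).obj Q)] :
    DCoh.IsCohD ((DCoh.LTensorCx ((pC q).obj Q)).obj ((DCoh.Lpull p).obj (DCoh.toD X P))) := by
  obtain ⟨G, s, hG0, hGf, hs⟩ := FlatResolve.exists_flat_resolution P bP
    fun i hi => HomologicalComplex.ExactAt.of_isZero (hP0 i hi)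
  haveI := hs
  let P' := (pC p).obj G
  have hGk : DCoh.IsKFlat G := Amplitude.isKFlat_of_bounded G bP hG0 hGf
  have hP'k : DCoh.IsKFlat P' := KFlatPullback.isKFlat_pullback p hGk
  let η := (PullPushAdj.pullK p).totalLeftDerivedCounit DerivedCategory.Qh
    (HomotopyCategory.quasiIso X.Modules (.up ℤ))
  haveI := PullPushAdj.isIso_counit_app_of_isKFlat p (DCoh.Lpull p) η hGk
  let eA : (DCoh.Lpull p).obj (DCoh.toD X P) ≅ DerivedCategory.Q.obj P' :=
    (DCoh.Lpull p).mapIso ((asIso (DerivedCategory.Q.map s)).symm ≪≫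
      ((DerivedCategory.quotientCompQhIso X.Modules).app G).symm) ≪≫
    asIso (η.app ((HomotopyCategory.quotient X.Modules (.up ℤ)).obj G)) ≪≫
    (LeftExists.onCxIso (Scheme.Modules.pullback p)).app G
  let B := (pC q).obj Q
  have hB0 : ∀ i, bQ < i → IsZero (B.X i) := fun i hi => (Scheme.Modules.pullback q).map_isZero (hQ0 i hi)
  obtain ⟨F, r, hF0, hFf, hr⟩ := FlatResolve.exists_flat_resolution B bQ
    fun i hi => HomologicalComplex.ExactAt.of_isZero (hB0 i hi)
  haveI := hr
  have hFk : DCoh.IsKFlat F := Amplitude.isKFlat_of_bounded F bQ hF0 hFf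
  have hPpc : ∀ m x, PseudoCoh.PCAt m (DerivedCategory.Q.obj P') x := fun m x => by
    have h1 : DCoh.IsPseudoCoherentD m (DCoh.toD X P) :=
      (PseudoCoh.iff_forall m _).2 fun y => PCCoh.pcAt_of_coh m (bP + 1 - m).toNat _ bP (by omega)
        (isLE_toD bP fun i hi => HomologicalComplex.ExactAt.of_isZero (hP0 i hi))
        (fun i _ _ => hP i) y
    exact PseudoCoh.PCAt.of_iso eA
      ((PseudoCoh.iff_forall m _).1 (PullPC.isPseudoCoherent_Lpull p h1) x)
  haveI := preservesHomology_pullback q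
  have hBc : ∀ i, Coh.IsCoh (DCoh.HD (DCoh.toD Z B) i) := fun i => by
    have h1 : Coh.IsCoh (Q.homology i) := CohBasics.Closure.isCoh_of_iso
      ((DerivedCategory.homologyFunctorFactors Y.Modules i).app Q) (hQ i)
    refine CohBasics.Closure.isCoh_of_iso ?_ (Cyc.FP.Stalk.isCoh_pullback q h1)
    exact ((Q.sc i).mapHomologyIso (Scheme.Modules.pullback q)).symm ≪≫
      ((DerivedCategory.homologyFunctorFactors Z.Modules i).app B).symm
  have hFpc : ∀ m x, PseudoCoh.PCAt m (DerivedCategory.Q.obj F) x := fun m x =>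
    PseudoCoh.PCAt.of_iso (asIso (DerivedCategory.Q.map r)).symm
      (PCCoh.pcAt_of_coh m (bQ + 1 - m).toNat _ bQ (by omega)
        (isLE_toD bQ fun i hi => HomologicalComplex.ExactAt.of_isZero (hB0 i hi))
        (fun i _ _ => hBc i) x)
  let α := (DCoh.tensorCxQ B).totalLeftDerivedCounit DerivedCategory.Q
    (HomologicalComplex.quasiIso Z.Modules (.up ℤ))
  haveI := TensorCoprod.isIso_counit_app_of_isKFlat B (DCoh.LTensorCx B) α hP'k
  haveI := TensorQis.quasiIso_left hP'k r
  let e : (DCoh.LTensorCx B).obj ((DCoh.Lpull p).obj (DCoh.toD X P)) ≅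
      DerivedCategory.Q.obj ((DCoh.tensorCx.obj P').obj F) :=
    (DCoh.LTensorCx B).mapIso eA ≪≫ asIso (α.app P') ≪≫
      (asIso (DerivedCategory.Q.map ((DCoh.tensorCx.obj P').map r))).symm
  intro n
  exact CohBasics.Closure.isCoh_of_iso
    (((DerivedCategory.homologyFunctorFactors Z.Modules n).app _).symm ≪≫
      (DerivedCategory.homologyFunctor Z.Modules n).mapIso e.symm)
    (Coherent.isCoh_homology_tensor P' F bQ hF0 hFk hPpc hFpc n)

end Groth.Agent.Lib.LocalTor.Main
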